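import Cfsg.Agent.H95.PermLower

/-!
Word equations between the entries of a straight-line program of packed permutations.
-/

set_option autoImplicit false

namespace Cfsg.Agent.H95.PermWord

open Cfsg.Agent.Compute

variable {w n m : ℕ} {P : List ((ℕ × ℕ) × ℕ × ℕ)}

/-- The entries of a checked program are among its entries. -/
theorem slpOK_self (h : PermIso.slpOK w n m [] P = true) :
    PermIso.slpOK w n m (P.map Prod.fst) P = true := by
  simp only [PermIso.slpOK, Bool.and_eq_true, lall_iff] at h ⊢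
  refine ⟨h.1, fun g hg => ?_⟩
  obtain ⟨e, he, rfl⟩ := List.mem_map.1 hg
  cases hf : lfind P (fun p => Nat.beq p.1.1 e.1.1) with
  | some x => rfl
  | none =>
    have := lfind_none hf he
    simp at this

/-- The code of a word. -/
noncomputable def wcode (w n : ℕ) (P : List ((ℕ × ℕ) × ℕ × ℕ)) (u : List ℕ) : ℕ :=
  List.rec (onePerm w n) (fun r _ ih => mulPerm w n (PermIso.operand P r) ih) u

/-- The letters of a word are in range. -/
noncomputable def wordIn (P : List ((ℕ × ℕ) × ℕ × ℕ)) (u : List ℕ) : Bool :=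
  lall u (fun r => Nat.ble (Nat.add r 1) (Nat.mul 2 P.length))

/-- Check of word equations. -/
noncomputable def eqsOK (w n : ℕ) (P : List ((ℕ × ℕ) × ℕ × ℕ)) (L : List (List ℕ × List ℕ)) :
    Bool :=
  lall L (fun e => wordIn P e.1 && wordIn P e.2 && Nat.beq (wcode w n P e.1) (wcode w n P e.2))

/-- The element of a letter. -/
noncomputable def letterPerm (w n : ℕ) (P : List ((ℕ × ℕ) × ℕ × ℕ)) (r : ℕ) :
    Equiv.Perm (Fin n) :=
  if r % 2 = 0 then permDen w n (PermLower.codeAt P (r / 2))
  else (permDen w n (PermLower.codeAt P (r / 2)))⁻¹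

theorem operand_spec (hn : n ≤ 2 ^ w) (h : PermIso.slpOK w n m (P.map Prod.fst) P = true) {r : ℕ}
    (hr : r < 2 * P.length) :
    PermOK w n (PermIso.operand P r) ∧
      permDen w n (PermIso.operand P r) = letterPerm w n P r ∧
      letterPerm w n P r ∈ PermLower.genGrp w n m P := by
  have hk : r / 2 < P.length := by omega
  obtain ⟨-, hm⟩ := PermLower.entry_mem hn h hk
  simp only [PermIso.slpOK, Bool.and_eq_true, allN_iff] at h
  obtain ⟨oa, ob, hb⟩ := (permSound w n hn).okInv_sound (h.1 _ hk).1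
  unfold PermIso.operand letterPerm
  by_cases he : r % 2 = 0
  · rw [if_pos he, show Nat.beq (Nat.mod r 2) 0 = true from Nat.beq_eq.mpr he]
    exact ⟨oa, rfl, hm⟩
  · rw [if_neg he, show Nat.beq (Nat.mod r 2) 0 = false from Bool.eq_false_iff.2 fun hc =>
      he (Nat.beq_eq.mp hc)]
    exact ⟨ob, hb, inv_mem hm⟩

open Classical in
/-- The element of a letter, in the generated group. -/
noncomputable def el (w n m : ℕ) (P : List ((ℕ × ℕ) × ℕ × ℕ)) (r : ℕ) :
    PermLower.genGrp w n m P :=
  if h : letterPerm w n P r ∈ PermLower.genGrp w n m P then ⟨_, h⟩ else 1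

theorem el_inv (r : ℕ) (hr : r % 2 = 0) : el w n m P (r + 1) = (el w n m P r)⁻¹ := by
  have e : letterPerm w n P (r + 1) = (letterPerm w n P r)⁻¹ := by
    rw [letterPerm, letterPerm, if_neg (by omega), if_pos hr, show (r + 1) / 2 = r / 2 by omega]
  by_cases h : letterPerm w n P r ∈ PermLower.genGrp w n m P
  · rw [el, el, dif_pos h, dif_pos (e ▸ inv_mem h)]
    exact Subtype.ext e
  · rw [el, el, dif_neg h, dif_neg (fun h' => h (inv_mem_iff.1 (e ▸ h'))), inv_one]

theorem el_val (hn : n ≤ 2 ^ w) (h : PermIso.slpOK w n m (P.map Prod.fst) P = true) {r : ℕ}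
    (hr : r < 2 * P.length) : (el w n m P r : Equiv.Perm (Fin n)) = letterPerm w n P r := by
  rw [el, dif_pos (operand_spec hn h hr).2.2]

theorem wcode_spec (hn : n ≤ 2 ^ w) (h : PermIso.slpOK w n m (P.map Prod.fst) P = true) :
    ∀ u : List ℕ, wordIn P u = true → PermOK w n (wcode w n P u) ∧
      permDen w n (wcode w n P u) = ((u.map (el w n m P)).prod : PermLower.genGrp w n m P) := by
  intro u
  induction u with
  | nil => exact fun _ => ⟨(permSound w n hn).ok_one, by
      show (permSound w n hn).den (permOps w n).one = _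
      rw [(permSound w n hn).den_one]; simp⟩
  | cons r t ih =>
    intro hu
    have hu' : (Nat.ble (Nat.add r 1) (Nat.mul 2 P.length) && wordIn P t) = true := hu
    rw [Bool.and_eq_true] at hu'
    obtain ⟨ot, et⟩ := ih hu'.2
    have hr : r < 2 * P.length := Nat.le_of_ble_eq_true hu'.1
    obtain ⟨or', er, -⟩ := operand_spec hn h hr
    refine ⟨(permSound w n hn).ok_mul or' ot, ?_⟩
    show (permSound w n hn).den ((permOps w n).mul (PermIso.operand P r) (wcode w n P t)) = _
    rw [(permSound w n hn).den_mul or' ot, List.map_cons, List.prod_cons, Subgroup.coe_mul,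
      el_val hn h hr, ← er, ← et]
    rfl

theorem eq_of_eqsOK (hn : n ≤ 2 ^ w) (h : PermIso.slpOK w n m (P.map Prod.fst) P = true)
    {L : List (List ℕ × List ℕ)} (hL : eqsOK w n P L = true) {u v : List ℕ} (he : (u, v) ∈ L) :
    (u.map (el w n m P)).prod = (v.map (el w n m P)).prod := by
  simp only [eqsOK, lall_iff, Bool.and_eq_true, Nat.beq_eq] at hL
  obtain ⟨⟨hu, hv⟩, e⟩ := hL _ he
  exact Subtype.ext ((wcode_spec hn h u hu).2.symm.trans
    ((congrArg (permDen w n) e).trans (wcode_spec hn h v hv).2))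

/-- A small program on some of the elements bounds the order of what they generate. -/
theorem card_closure_ge (hn : n ≤ 2 ^ w) (h : PermIso.slpOK w n m (P.map Prod.fst) P = true)
    {m' : ℕ} {Q : List ((ℕ × ℕ) × ℕ × ℕ)}
    (hQ : PermIso.slpOK w n m' (Q.map Prod.fst) Q = true) {ls : List PermLower.Step}
    (hl : PermLower.lowOK w n Q ls [] = true) {L : List ℕ}
    (hcode : allN m' (fun k => Nat.ble (Nat.add k 1) L.length &&
      Nat.ble (Nat.add (nth 0 L k) 1) (Nat.mul 2 P.length) &&
      Nat.beq (PermLower.codeAt Q k) (PermIso.operand P (nth 0 L k))) = true)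
    {s : Set (PermLower.genGrp w n m P)} (hs : ∀ r ∈ L, el w n m P r ∈ s) :
    PermLower.bound ls ≤ Nat.card (Subgroup.closure s) := by
  refine (PermLower.card_ge hn hQ hl).trans ?_
  have hle : PermLower.genGrp w n m' Q ≤ (Subgroup.closure s).map (PermLower.genGrp w n m P).subtype := by
    refine (Subgroup.closure_le _).2 ?_
    rintro σ ⟨k, hk, rfl⟩
    have hk' := (allN_iff _ _).1 hcode k hk
    simp only [Bool.and_eq_true, Nat.beq_eq, Nat.ble_eq] at hk'
    obtain ⟨⟨hkL, hr⟩, e⟩ := hk'
    refine ⟨el w n m P (nth 0 L k), Subgroup.subset_closure (hs _ (nth_mem 0 L k hkL)), ?_⟩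
    show (el w n m P (nth 0 L k) : Equiv.Perm (Fin n)) = _
    rw [el_val hn h hr, ← (operand_spec hn h hr).2.1, ← e]
    rfl
  refine (Nat.card_mono (Set.toFinite _) hle).trans ?_
  exact (Nat.card_congr ((Subgroup.closure s).equivMapOfInjective _ (PermLower.genGrp w n m P).subtype_injective).symm.toEquiv).le

end Cfsg.Agent.H95.PermWord
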