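import Cfsg.Agent.H95.PermWord.Basic
import Cfsg.Agent.H95.KilledInverted

/-!
Certificates for killed Sylow subgroups made of inverted and centralised elements.
-/

set_option autoImplicit false

namespace Cfsg.Agent.H95.PermWord

open Cfsg.Agent.Compute Cfsg.Agent.Linear.Mult

/-- The inverse letter. -/
def flipL (r : ℕ) : ℕ := if r % 2 = 0 then r + 1 else r - 1

/-- Letters of a certificate: `A` is inverted by `t`, `S` centralised. Pairs carry two commuting
letters, a conjugating letter and one of four forms. -/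
structure InvCert where
  /-- The inverted generators. -/
  A : List ℕ
  /-- The centralised generators. -/
  S : List ℕ
  /-- The involution. -/
  t : ℕ
  /-- The prime. -/
  l : ℕ
  /-- Commuting pairs with witnesses. -/
  pairs : List (ℕ × ℕ × ℕ × ℕ)
  /-- The conjugates of `A` under `S` as words. -/
  norm : List (ℕ × ℕ × List ℕ)

namespace InvCert

variable (C : InvCert)

/-- The images of a pair under its witness. -/
def target : ℕ × ℕ × ℕ × ℕ → ℕ × ℕ
  | (a, b, _, 0) => (flipL a, b)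
  | (a, b, _, 1) => (a, flipL b)
  | (a, b, _, 2) => (b, a)
  | (a, b, _, _) => (flipL b, flipL a)

/-- The word equations. -/
def eqs : List (List ℕ × List ℕ) :=
  [([C.t, C.t], [])] ++ C.A.flatMap (fun a =>
      [([C.t, a], [flipL a, C.t]), (List.replicate C.l a, [])]) ++
    C.S.flatMap (fun s => [([C.t, s], [s, C.t]), (List.replicate C.l s, [])]) ++
    C.pairs.flatMap (fun p => [([p.1, p.2.1], [p.2.1, p.1]),
      ([p.2.2.1, p.1], [(target p).1, p.2.2.1]), ([p.2.2.1, p.2.1], [(target p).2, p.2.2.1])]) ++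
    C.norm.map (fun q => ([q.1, q.2.1], q.2.2 ++ [q.1]))

/-- The pairs and conjugates are all listed. -/
def cover : Bool :=
  (C.A.all fun a => a % 2 == 0) && (C.S.all fun a => a % 2 == 0) &&
  (C.pairs.all fun p => p.1 % 2 == 0 && p.2.1 % 2 == 0) &&
  ([C.A, C.S].all fun L => L.all fun a => L.all fun b => a == b ||
    C.pairs.any fun p => (p.1 == a && p.2.1 == b) || (p.1 == b && p.2.1 == a)) &&
  (C.S.all fun s => C.A.all fun a => C.norm.any fun q => q.1 == s && q.2.1 == a) &&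
  (C.norm.all fun q => q.2.2.all fun r => C.A.contains r)

variable {w n m : ℕ} {P : List ((ℕ × ℕ) × ℕ × ℕ)}

/-- The subgroup of a certificate. -/
noncomputable def grp (w n m : ℕ) (P : List ((ℕ × ℕ) × ℕ × ℕ)) :
    Subgroup (PermLower.genGrp w n m P) :=
  Subgroup.closure (el w n m P '' {r | r ∈ C.A} ∪ el w n m P '' {r | r ∈ C.S})

theorem el_flip {r : ℕ} (hr : r % 2 = 0) : el w n m P (flipL r) = (el w n m P r)⁻¹ := by
  rw [flipL, if_pos hr, el_inv r hr]

theorem mem_invert {a : ℕ} (ha : a ∈ C.A) : ([C.t, a], [flipL a, C.t]) ∈ C.eqs := by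
  simp only [eqs, List.mem_append, List.mem_flatMap]
  exact Or.inl (Or.inl (Or.inl (Or.inr ⟨a, ha, by simp⟩)))

theorem mem_pow {a : ℕ} (ha : a ∈ C.A ∨ a ∈ C.S) :
    (List.replicate C.l a, ([] : List ℕ)) ∈ C.eqs := by
  simp only [eqs, List.mem_append, List.mem_flatMap]
  rcases ha with ha | ha
  · exact Or.inl (Or.inl (Or.inl (Or.inr ⟨a, ha, by simp⟩)))
  · exact Or.inl (Or.inl (Or.inr ⟨a, ha, by simp⟩))

theorem killed (hn : n ≤ 2 ^ w) (h : PermIso.slpOK w n m (P.map Prod.fst) P = true)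
    (hl : C.l.Prime) (hl2 : C.l ≠ 2) (hc : C.cover = true) (he : eqsOK w n P C.eqs = true)
    {X : Type*} [Group X] [Finite X] (E : LExt C.l X (PermLower.genGrp w n m P)) :
    E.Killed (C.grp w n m P) := by
  have E1 : ∀ {u v}, (u, v) ∈ C.eqs → (u.map (el w n m P)).prod = (v.map (el w n m P)).prod :=
    fun hm => eq_of_eqsOK hn h he hm
  simp only [cover, Bool.and_eq_true, List.all_eq_true, List.any_eq_true, beq_iff_eq,
    Bool.or_eq_true, List.contains_iff_mem] at hc
  obtain ⟨⟨⟨⟨⟨hA0, hS0⟩, hP0⟩, hcov⟩, hncov⟩, hnA⟩ := hc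
  have htt : el w n m P C.t ^ 2 = 1 := by
    simpa [pow_two] using E1 (u := [C.t, C.t]) (v := []) (by simp [eqs])
  have hpow : ∀ a, a ∈ C.A ∨ a ∈ C.S → el w n m P a ^ C.l = 1 := by
    intro a ha
    have hm := C.mem_pow ha
    simpa using E1 hm
  have hts : ∀ s ∈ C.S, Commute (el w n m P C.t) (el w n m P s) := fun s hs => by
    have hm : ([C.t, s], [s, C.t]) ∈ C.eqs := by
      simp only [eqs, List.mem_append, List.mem_flatMap]
      exact Or.inl (Or.inl (Or.inr ⟨s, hs, by simp⟩))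
    simpa [Commute, SemiconjBy] using E1 hm
  have hpair : ∀ p ∈ C.pairs, E.cm (el w n m P p.1) (el w n m P p.2.1) = 1 := by
    rintro ⟨a, b, g, k⟩ hp
    obtain ⟨ha, hb⟩ : a % 2 = 0 ∧ b % 2 = 0 := hP0 _ hp
    have m1 : ([a, b], [b, a]) ∈ C.eqs := by
      simp only [eqs, List.mem_append, List.mem_flatMap]
      exact Or.inl (Or.inr ⟨_, hp, by simp⟩)
    have m2 : ([g, a], [(target (a, b, g, k)).1, g]) ∈ C.eqs := by
      simp only [eqs, List.mem_append, List.mem_flatMap]
      exact Or.inl (Or.inr ⟨_, hp, by simp⟩)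
    have m3 : ([g, b], [(target (a, b, g, k)).2, g]) ∈ C.eqs := by
      simp only [eqs, List.mem_append, List.mem_flatMap]
      exact Or.inl (Or.inr ⟨_, hp, by simp⟩)
    have hab : Commute (el w n m P a) (el w n m P b) := by
      simpa [Commute, SemiconjBy] using E1 m1
    have c2 := E1 m2
    have c3 := E1 m3
    simp only [List.map_cons, List.map_nil, List.prod_cons, List.prod_nil, mul_one] at c2 c3
    refine KilledInverted.cm_eq_one_of_conj E hl2 hab (el w n m P g) ?_
    match k with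
    | 0 => simp only [target, el_flip ha] at c2 c3
           exact Or.inl ⟨mul_inv_eq_iff_eq_mul.2 c2, mul_inv_eq_iff_eq_mul.2 c3⟩
    | 1 => simp only [target, el_flip hb] at c2 c3
           exact Or.inr (Or.inl ⟨mul_inv_eq_iff_eq_mul.2 c2, mul_inv_eq_iff_eq_mul.2 c3⟩)
    | 2 => simp only [target] at c2 c3
           exact Or.inr (Or.inr (Or.inl ⟨mul_inv_eq_iff_eq_mul.2 c2, mul_inv_eq_iff_eq_mul.2 c3⟩))
    | k + 3 => simp only [target, el_flip ha, el_flip hb] at c2 c3
               exact Or.inr (Or.inr (Or.inr ⟨mul_inv_eq_iff_eq_mul.2 c2, mul_inv_eq_iff_eq_mul.2 c3⟩))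
  have hcm : ∀ L ∈ [C.A, C.S], ∀ a ∈ L, ∀ b ∈ L, E.cm (el w n m P a) (el w n m P b) = 1 := by
    intro L hL a ha b hb
    rcases hcov L hL a ha b hb with rfl | ⟨p, hp, ⟨rfl, rfl⟩ | ⟨rfl, rfl⟩⟩
    · exact E.cm_self _
    · exact hpair p hp
    · rw [← E.cm_inv, hpair p hp, inv_one]
  refine KilledInverted.killed E hl2 _ _ (el w n m P C.t) ?_ ?_ ?_ ?_ ?_ ?_
  · rintro _ ⟨a, ha, rfl⟩
    have hm := C.mem_invert ha
    have := E1 hm
    simp only [List.map_cons, List.map_nil, List.prod_cons, List.prod_nil, mul_one,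
      el_flip (hA0 a ha)] at this
    exact mul_inv_eq_iff_eq_mul.2 this
  · rintro _ ⟨s, hs, rfl⟩
    exact hts s hs
  · rintro _ ⟨s, hs, rfl⟩
    refine E.cm_eq_one_of_coprime (hts s hs) ?_
    exact Nat.Coprime.coprime_dvd_left (orderOf_dvd_of_pow_eq_one htt)
      (Nat.Coprime.coprime_dvd_right (orderOf_dvd_of_pow_eq_one (hpow s (Or.inr hs)))
        ((Nat.coprime_primes Nat.prime_two hl).2 (Ne.symm hl2)))
  · rintro _ ⟨a, ha, rfl⟩ _ ⟨b, hb, rfl⟩
    exact hcm C.A (by simp) a ha b hb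
  · rintro _ ⟨a, ha, rfl⟩ _ ⟨b, hb, rfl⟩
    exact hcm C.S (by simp) a ha b hb
  · rintro _ ⟨s, hs, rfl⟩ _ ⟨a, ha, rfl⟩
    obtain ⟨⟨s', a', u⟩, hq, rfl, rfl⟩ := hncov s hs a ha
    have hm : ([s', a'], u ++ [s']) ∈ C.eqs := by
      simp only [eqs, List.mem_append, List.mem_map]
      exact Or.inr ⟨_, hq, rfl⟩
    have := E1 hm
    simp only [List.map_cons, List.map_nil, List.map_append, List.prod_append, List.prod_cons,
      List.prod_nil, mul_one] at this
    rw [this, mul_inv_cancel_right]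
    refine list_prod_mem fun x hx => ?_
    obtain ⟨r, hr, rfl⟩ := List.mem_map.1 hx
    exact Subgroup.subset_closure ⟨r, hnA _ hq r hr, rfl⟩

/-- The subgroup is an `l`-group. -/
theorem isPGroup (hn : n ≤ 2 ^ w) (h : PermIso.slpOK w n m (P.map Prod.fst) P = true)
    (hc : C.cover = true) (he : eqsOK w n P C.eqs = true) : IsPGroup C.l (C.grp w n m P) := by
  have E1 : ∀ {u v}, (u, v) ∈ C.eqs → (u.map (el w n m P)).prod = (v.map (el w n m P)).prod :=
    fun hm => eq_of_eqsOK hn h he hm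
  simp only [cover, Bool.and_eq_true, List.all_eq_true, List.any_eq_true, beq_iff_eq,
    Bool.or_eq_true, List.contains_iff_mem] at hc
  obtain ⟨⟨⟨⟨⟨hA0, hS0⟩, hP0⟩, hcov⟩, hncov⟩, hnA⟩ := hc
  have hone : ∀ L ∈ [C.A, C.S], IsPGroup C.l (Subgroup.closure (el w n m P '' {r | r ∈ L})) := by
    intro L hL
    have hcomm : ∀ x ∈ el w n m P '' {r | r ∈ L}, ∀ y ∈ el w n m P '' {r | r ∈ L}, x * y = y * x := by
      rintro _ ⟨a, ha, rfl⟩ _ ⟨b, hb, rfl⟩
      rcases hcov L hL a ha b hb with rfl | ⟨p, hp, he'⟩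
      · rfl
      have m1 : ([p.1, p.2.1], [p.2.1, p.1]) ∈ C.eqs := by
        simp only [eqs, List.mem_append, List.mem_flatMap]
        exact Or.inl (Or.inr ⟨_, hp, by simp⟩)
      have := E1 m1
      rcases he' with ⟨rfl, rfl⟩ | ⟨rfl, rfl⟩ <;> simpa [eq_comm] using this
    letI := Subgroup.closureCommGroupOfComm hcomm
    rintro ⟨x, hx⟩
    refine ⟨1, ?_⟩
    induction hx using Subgroup.closure_induction with
    | mem x hx =>
      obtain ⟨a, ha, rfl⟩ := hx
      have hm : (List.replicate C.l a, ([] : List ℕ)) ∈ C.eqs := by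
        simp only [List.mem_cons, List.not_mem_nil, or_false] at hL
        rcases hL with rfl | rfl
        · exact C.mem_pow (.inl ha)
        · exact C.mem_pow (.inr ha)
      exact Subtype.ext (by simpa using E1 hm)
    | one => exact Subtype.ext (by simp)
    | mul x y hx hy ihx ihy =>
      have : (⟨x * y, mul_mem hx hy⟩ : Subgroup.closure (el w n m P '' {r | r ∈ L})) =
          ⟨x, hx⟩ * ⟨y, hy⟩ := rfl
      rw [this, mul_pow, ihx, ihy, one_mul]
    | inv x hx ihx =>
      have : (⟨x⁻¹, inv_mem hx⟩ : Subgroup.closure (el w n m P '' {r | r ∈ L})) = ⟨x, hx⟩⁻¹ := rfl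
      rw [this, inv_pow, ihx, inv_one]
  rw [grp, Subgroup.closure_union]
  refine (hone C.A (by simp)).to_sup_of_normal_left' (hone C.S (by simp)) ?_
  rw [Subgroup.closure_le]
  rintro _ ⟨s, hs, rfl⟩
  set y := el w n m P s
  set K := Subgroup.closure (el w n m P '' {r | r ∈ C.A})
  have hle : K.map (MulAut.conj y).toMonoidHom ≤ K := by
    rw [MonoidHom.map_closure, Subgroup.closure_le]
    rintro _ ⟨_, ⟨a, ha, rfl⟩, rfl⟩
    obtain ⟨⟨s', a', u⟩, hq, rfl, rfl⟩ := hncov s hs a ha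
    have hm : ([s', a'], u ++ [s']) ∈ C.eqs := by
      simp only [eqs, List.mem_append, List.mem_map]
      exact Or.inr ⟨_, hq, rfl⟩
    have := E1 hm
    simp only [List.map_cons, List.map_nil, List.map_append, List.prod_append, List.prod_cons,
      List.prod_nil, mul_one] at this
    show el w n m P s' * el w n m P a' * (el w n m P s')⁻¹ ∈ K
    rw [this, mul_inv_cancel_right]
    refine list_prod_mem fun x hx => ?_
    obtain ⟨r, hr, rfl⟩ := List.mem_map.1 hx
    exact Subgroup.subset_closure ⟨r, hnA _ hq r hr, rfl⟩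
  have heq := Subgroup.eq_of_le_of_card_ge hle
    (Nat.card_congr (K.equivMapOfInjective _ (MulAut.conj y).injective).toEquiv).le
  show y ∈ Subgroup.normalizer (K : Set _)
  rw [Subgroup.mem_normalizer_iff]
  intro x
  constructor
  · intro hx
    rw [← heq]
    exact ⟨x, hx, rfl⟩
  · intro hx
    rw [← heq] at hx
    obtain ⟨z, hz, hze⟩ := hx
    rwa [← (MulAut.conj y).injective hze]

theorem dvd_card (hn : n ≤ 2 ^ w) (h : PermIso.slpOK w n m (P.map Prod.fst) P = true)
    (hl : C.l.Prime) (hc : C.cover = true) (he : eqsOK w n P C.eqs = true) {k : ℕ}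
    (hk : C.l ^ k ≤ Nat.card (C.grp w n m P)) : C.l ^ k ∣ Nat.card (C.grp w n m P) := by
  haveI := Fact.mk hl
  obtain ⟨j, hj⟩ := (C.isPGroup hn h hc he).exists_card_eq
  rw [hj] at hk ⊢
  exact pow_dvd_pow _ ((Nat.pow_le_pow_iff_right hl.one_lt).1 hk)

end InvCert

end Cfsg.Agent.H95.PermWord
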